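import Cfsg.Agent.J2.Cover.Rels
import Cfsg.Agent.Coset.Orbit

/-! Free reduction of words in involutions. -/

set_option autoImplicit false
set_option maxRecDepth 100000

namespace CfsgLib.J2.Cover

open CfsgLib.Coset

/-- Cancel adjacent equal letters. -/
def red : List Nat → List Nat
  | [] => []
  | a :: w => match red w with
    | [] => [a]
    | b :: r => if a = b then r else a :: b :: r

/-- Strip equal letters at the two ends. -/
def strip : Nat → List Nat → List Nat
  | 0, w => w
  | _ + 1, [] => []
  | n + 1, a :: w => if w.getLast? = some a then strip n w.dropLast else a :: w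

/-- The relator of a pair of conjugations. -/
def relOf (t : List Nat × Nat × List Nat × Nat) : List Nat :=
  strip 100 (red (t.1 ++ [t.2.1] ++ t.1.reverse ++ (t.2.2.1 ++ [t.2.2.2] ++ t.2.2.1.reverse)))

theorem rels_eq : rels = [[0, 0], [1, 1], [2, 2], [3, 3], [4, 4]] ++ covData.map relOf := by
  decide +kernel

variable {G : Type*} [Group G] {L : List G}

theorem ev_red (h2 : ∀ x, fl L x * fl L x = 1) : ∀ w, ev L (red w) = ev L w
  | [] => rfl
  | a :: w => by
    rw [ev_cons, ← ev_red h2 w, red]
    rcases hr : red w with _ | ⟨b, r⟩
    · simp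
    · simp only
      split_ifs with hab
      · subst hab
        rw [ev_cons, ← mul_assoc, h2, one_mul]
      · simp

theorem ev_strip (h2 : ∀ x, fl L x * fl L x = 1) : ∀ (n : Nat) (w : List Nat),
    ev L w = 1 → ev L (strip n w) = 1
  | 0, _, h => h
  | _ + 1, [], h => h
  | n + 1, a :: w, h => by
    rw [strip]
    split_ifs with hl
    · refine ev_strip h2 n _ ?_
      rw [← List.dropLast_append_getLast? a (Option.mem_def.mpr hl), ev_cons, ev_append, ev_cons,
        ev_nil, mul_one] at h
      have h' := congrArg (fun x => fl L a * x * fl L a) h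
      simp only [← mul_assoc] at h'
      rw [h2, one_mul, mul_assoc, h2, mul_one, mul_one, h2] at h'
      exact h'
    · exact h

theorem ev_reverse' (h2 : ∀ x, fl L x * fl L x = 1) (w : List Nat) :
    ev L w.reverse = (ev L w)⁻¹ := by
  induction w with
  | nil => simp
  | cons l w ih =>
    simp only [List.reverse_cons, ev_append, ih, ev_cons, ev_nil, mul_one, mul_inv_rev,
      inv_eq_of_mul_eq_one_right (h2 l)]

end CfsgLib.J2.Cover
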