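import Cfsg.Agent.Coset.Prim

set_option autoImplicit false
set_option maxRecDepth 100000
set_option linter.unusedVariables false

namespace CfsgLib.J2.Cover.T2

noncomputable def ELeaf (i : Nat) : Nat := (0x2000000000000020000000000000200000000000002000000000000020000000000000200000000000002000000000000020000000000000200000000000002000000000000020000000000000200000000000002000000000000020000000000000200000000000002000000000000020000000000000200000000000002000000000000020000000000000200000000000002000000000000020000000000000200000000000002000000000000020000000000000200000000000002000000000000020000000000000200000000000002000000000000020000000000000200000000000002000000000000020000000000000200000000000002000000000000020000000000000200000000000002000000000000020000000000000200000000000002000000000000020000000000000200000000000002000000000000020000000000000200000000000002000000000000020000000000000200000000000002000000000000020000000000000200000000000002000000000000020000000000000200000000000002000000000000020000000000000200000000000002000000000000020000000000000200000000000001000004000005000000050000030000000400000201000003000001010000020000000000000100000002000000000000 : Nat)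
noncomputable def E (i : Nat) : Nat := Nat.shiftRight (ELeaf (Nat.shiftRight i 8)) (Nat.mul 56 (Nat.land i 255))

noncomputable def C (i : Nat) : Nat := (0x100000000000100000000000100000000000100000000000100000000000100000000000100000000000100000000000100000000000100000000000100000000000100000000000100000000000100000000000100000000000100000000000100000000000100000000000100000000000100000000000100000000000100000000000100000000000100000000000100000000000100000000000100000000000100000000000100000000000100000000000100000000000100000000000100000000000100000000000100000000000100000000000100000000000100000000000100000000000100000000000100000000000100000000000100000000000100000000000100000000000100000000000100000000000100000000000100000000000100000000000100000000000100000000000100000000000100000000000100000000000100000000000100000000000100000000000100000000000100000000000100000000000100000000000100000a000006000002000005000009000005000000 : Nat)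

noncomputable def TbLeaf (i : Nat) : Nat := (0x4000003000005000002000001000005000000000004000003000000000002000001 : Nat)
noncomputable def Tb (i : Nat) : Nat := Nat.shiftRight (TbLeaf (Nat.shiftRight i 7)) (Nat.mul 48 (Nat.land i 127))

noncomputable def RefLeaf (i : Nat) : Nat := (0xc00000b00000d00000900000700000a000005000008000006000003000004000002 : Nat)
noncomputable def Ref (i : Nat) : Nat := Nat.shiftRight (RefLeaf (Nat.shiftRight i 7)) (Nat.mul 48 (Nat.land i 127))

noncomputable def Rep0Leaf (i : Nat) : Nat := (0x5000004000003000002000001000000 : Nat)
noncomputable def Rep0 (i : Nat) : Nat := Nat.shiftRight (Rep0Leaf (Nat.shiftRight i 8)) (Nat.mul 24 (Nat.land i 255))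

noncomputable def Rep (i : Nat) : Nat := Nat.land (Rep0 i) 16777215

noncomputable def ParLeaf (i : Nat) : Nat := (0x3000000000002000001000001000001000000000000000000000000000000 : Nat)
noncomputable def Par (i : Nat) : Nat := Nat.shiftRight (ParLeaf (Nat.shiftRight i 8)) (Nat.mul 48 (Nat.land i 255))

def R : CfsgLib.Coset.Tr (List Nat × Nat) := .node (.leaf ([0, 1, 0, 1, 0, 1], 1028)) (.leaf ([], 1536))

def subs : List (List Nat) := []

end CfsgLib.J2.Cover.T2
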