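import Cfsg.Agent.J2.Cover.Lift
import Cfsg.Agent.J2.Cover.T0
import Cfsg.Agent.J2.Cover.T1
import Cfsg.Agent.J2.Cover.T2
import Mathlib.GroupTheory.Abelianization.Defs

/-! A stem extension of the Hall–Janko group has kernel of order at most two. -/

set_option autoImplicit false
set_option maxRecDepth 100000

namespace CfsgLib.J2.Cover

open CfsgLib.Coset Perm
open scoped commutatorElement

theorem data_check : (covData.all fun t => checkLetters 5 [t.1] && checkLetters 5 [t.2.2.1] &&
    Nat.blt t.2.1 5 && Nat.blt t.2.2.2 5 &&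
    Nat.beq (follow (tget Perm.Tb) (gLine t.2.1) t.1.reverse)
      (follow (tget Perm.Tb) (gLine t.2.2.2) t.2.2.1.reverse)) = true := by decide +kernel

theorem even_check : (rels.all fun w => Nat.beq (w.length % 2) 0) = true := by decide +kernel

theorem tw_gen : ∀ l : Fin 5, sameW (tw 8 (gIx l).val ++ [0] ++ (tw 8 (gIx l).val).reverse)
    [l.val] = true := by decide +kernel

section

variable {Γ : Type} [Group Γ] {σ : Γ →* P}

/-- Lifts conjugate alike. -/
theorem lift_fixes (hs : Cfsg.IsStemExtension σ) {x : Γ} (hx : σ x = Perm.z) {g : Γ}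
    (hg : σ g ∈ Perm.C) : g * x = x * g := by
  have hle : Perm.C ≤ (Subgroup.centralizer {x}).map σ := C_le_of_comm fun a b ha hb => by
    obtain ⟨a, rfl⟩ := hs.1 a
    obtain ⟨b, rfl⟩ := hs.1 b
    rw [Perm.C, Subgroup.mem_centralizer_singleton_iff, ← hx] at ha hb
    exact ⟨⁅a, b⁆, Subgroup.mem_centralizer_singleton_iff.mpr (commutator_fixes hs.2.1 ha hb),
      map_commutatorElement σ a b⟩
  obtain ⟨c, hc, he⟩ := hle hg
  have hk : c⁻¹ * g ∈ Subgroup.center Γ := hs.2.1 (by
    rw [MonoidHom.mem_ker, map_mul, map_inv, he, inv_mul_cancel])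
  have h1 := Subgroup.mem_center_iff.mp hk x
  calc g * x = c * ((c⁻¹ * g) * x) := by group
    _ = c * (x * (c⁻¹ * g)) := by rw [h1]
    _ = (c * x) * (c⁻¹ * g) := by group
    _ = x * g := by rw [Subgroup.mem_centralizer_singleton_iff.mp hc]; group

/-- The reflection has an involutive lift commuting with the lifts of its centraliser. -/
theorem exists_invol (hs : Cfsg.IsStemExtension σ) :
    ∃ x : Γ, σ x = Perm.z ∧ x * x = 1 := by
  have h := q_check
  simp only [Bool.and_eq_true] at h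
  obtain ⟨⟨⟨m1, m2⟩, s1⟩, s2⟩ := h
  have c1 : ev Lp q1 ∈ Perm.C := mem_C_word (List.mem_append_right _ (List.contains_iff_mem.mp m1))
  have c2 : ev Lp q2 ∈ Perm.C := mem_C_word (List.mem_append_right _ (List.contains_iff_mem.mp m2))
  obtain ⟨a, ha⟩ := hs.1 (ev Lp q1)
  obtain ⟨b, hb⟩ := hs.1 (ev Lp q2)
  have hz : σ ⁅a, b⁆ = Perm.z := by
    have := sameW_eq s2
    simpa [map_commutatorElement, ha, hb, commutatorElement_def, ev_append, ev_reverse,
      mul_assoc, Perm.z] using this
  refine ⟨⁅a, b⁆, hz, ?_⟩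
  have hcom : a * ⁅a, b⁆ = ⁅a, b⁆ * a := lift_fixes hs hz (ha ▸ c1)
  have hsq : a * a ∈ Subgroup.center Γ := hs.2.1 (by
    have := sameW_eq s1
    rw [ev_append, ev_nil, ← ha, ← map_mul] at this
    exact this)
  calc ⁅a, b⁆ * ⁅a, b⁆ = a * ⁅a, b⁆ * a⁻¹ * ⁅a, b⁆ := by rw [hcom]; group
    _ = (a * a) * b * (a * a)⁻¹ * b⁻¹ := by rw [commutatorElement_def]; group
    _ = 1 := by rw [← Subgroup.mem_center_iff.mp hsq b]; group

/-- The involutive lifts of the generators satisfy the relators. -/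
theorem exists_lifts (hs : Cfsg.IsStemExtension σ) :
    ∃ a : List Γ, a.map σ = Lp ∧ (∀ x, fl a x * fl a x = 1) ∧ ∀ w ∈ rels, ev a w = 1 := by
  obtain ⟨x, hx, hx2⟩ := exists_invol hs
  choose t ht using fun i : Fin 315 => hs.1 (ev Lp (tw 8 i.val))
  have key : ∀ (g : Γ) (i : Fin 315), Perm.ρ (σ g) 1 = i →
      g * x * g⁻¹ = t i * x * (t i)⁻¹ := by
    intro g i hi
    have hm : σ ((t i)⁻¹ * g) ∈ Perm.C := by
      rw [C_eq_S1, S1, mem_pstab, map_mul, map_inv, ht, map_mul, map_inv, Equiv.Perm.mul_apply,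
        hi, Equiv.Perm.inv_def, Equiv.symm_apply_eq, ρ_tw]
    have e := lift_fixes hs hx hm
    calc g * x * g⁻¹ = t i * (((t i)⁻¹ * g) * x) * g⁻¹ := by group
      _ = t i * (x * ((t i)⁻¹ * g)) * g⁻¹ := by rw [e]
      _ = t i * x * (t i)⁻¹ := by group
  have conj : ∀ (g : Γ) (i : Fin 315),
      g * (t i * x * (t i)⁻¹) * g⁻¹ = t (Perm.ρ (σ g) i) * x * (t (Perm.ρ (σ g) i))⁻¹ := by
    intro g i
    rw [← key (g * t i) (Perm.ρ (σ g) i) (by rw [map_mul, map_mul, Equiv.Perm.mul_apply, ht, ρ_tw])]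
    group
  set a : List Γ := (List.finRange 5).map fun l => t (gIx l) * x * (t (gIx l))⁻¹ with hadef
  have hfl : ∀ l : Fin 5, fl a l.val = t (gIx l) * x * (t (gIx l))⁻¹ := by
    intro l
    rw [fl, List.getD_eq_getElem _ _ (by simp [hadef])]
    simp [hadef]
  have hσ : ∀ l : Fin 5, σ (fl a l.val) = fl Lp l.val := by
    intro l
    have h := sameW_eq (tw_gen l)
    rw [hfl, map_mul, map_mul, map_inv, ht, hx]
    simpa [ev_append, ev_reverse, Perm.z, mul_assoc] using h
  have hmap : a.map σ = Lp := by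
    apply List.ext_getElem
    · simp [hadef, len_Lp]
    · intro i h1 h2
      have hi : i < 5 := by simpa [len_Lp] using h2
      have h := hσ ⟨i, hi⟩
      rw [fl, fl, List.getD_eq_getElem _ _ (by simp [hadef]; omega),
        List.getD_eq_getElem _ _ h2] at h
      simpa using h
  have h2 : ∀ l, fl a l * fl a l = 1 := by
    intro l
    rcases lt_or_ge l 5 with hl | hl
    · rw [hfl ⟨l, hl⟩]
      calc _ = t (gIx ⟨l, hl⟩) * (x * x) * (t (gIx ⟨l, hl⟩))⁻¹ := by group
        _ = 1 := by rw [hx2]; group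
    · rw [fl_of_le _ (by simp [hadef]; omega), mul_one]
  refine ⟨a, hmap, h2, ?_⟩
  have hpal : ∀ (u : List Nat) (m : Nat) (hu : checkLetters 5 [u] = true) (hm : m < 5),
      ∃ i : Fin 315, i.val = follow (tget Perm.Tb) (gLine m) u.reverse ∧
        ev a (u ++ [m] ++ u.reverse) = t i * x * (t i)⁻¹ := by
    intro u m hu hm
    refine ⟨Perm.ρ (ev Lp u) (gIx ⟨m, hm⟩),
      ρ_follow (letters_lt hu u (by simp)) _, ?_⟩
    rw [ev_append, ev_append, ev_reverse' h2, ev_cons, ev_nil, mul_one, hfl ⟨m, hm⟩, conj,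
      map_ev σ a hmap]
  intro w hw
  rw [rels_eq, List.mem_append] at hw
  rcases hw with hw | hw
  · simp only [List.mem_cons, List.not_mem_nil, or_false] at hw
    rcases hw with rfl | rfl | rfl | rfl | rfl <;> simp [h2]
  · obtain ⟨d, hd, rfl⟩ := List.mem_map.mp hw
    have h := List.all_eq_true.mp data_check d hd
    simp only [Bool.and_eq_true] at h
    obtain ⟨⟨⟨⟨hu, hv⟩, hm⟩, hm'⟩, he⟩ := h
    obtain ⟨i, hi, ei⟩ := hpal d.1 d.2.1 hu (Nat.le_of_ble_eq_true hm)
    obtain ⟨j, hj, ej⟩ := hpal d.2.2.1 d.2.2.2 hv (Nat.le_of_ble_eq_true hm')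
    have hij : i = j := Fin.ext (by rw [hi, hj]; exact Nat.eq_of_beq_eq_true he)
    refine ev_strip h2 _ _ ?_
    rw [ev_red h2, ev_append, ei, ej, hij]
    calc _ = t j * (x * x) * (t j)⁻¹ := by group
      _ = 1 := by rw [hx2]; group

/-- A level of the table. -/
theorem cov_level {X : Type} [Group X] {L : List X} (hL : L.length = 5)
    (h2 : ∀ x, fl L x * fl L x = 1) (hrel : ∀ w ∈ rels, ev L w = 1)
    {S S' : List Nat} {rs subs : List (List Nat)} {E Rep Tb : Nat → Nat}
    {R : Tr (List Nat × Nat)} {d d' N nC dn dk n : Nat} {Ch Ref : Nat → Nat} (k : Nat)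
    (hk : S.length = k)
    (hc : checkLevel rels 5 S S' rs subs = true)
    (hR : checkRules rs subs R = true) (hd : checkDefs E k d' N = true)
    (hs : checkChunks E id R k d N nC Ch = true)
    (ht : checkTable E id (N + chunk * nC) n k dn dk Rep Ref Tb = true) :
    TableOK (lv L S) (genBy L S') E id n Rep Tb := by
  have hl : (lv L S).length = k := by simp [lv, hk]
  exact tableOK_of_check (inv_lv h2 S) hR (hl.symm ▸ hd) (hl.symm ▸ hs) (hl.symm ▸ ht)
    (level_rels hL hc hrel) (level_subs hL hc)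

theorem cov_card {X : Type} [Group X] {L : List X} (hL : L.length = 5)
    (h2 : ∀ x, fl L x * fl L x = 1) (hrel : ∀ w ∈ rels, ev L w = 1) :
    Nat.card (Subgroup.closure {x | x ∈ L}) ≤ 2419200 := by
  have c0 : checkLevel rels 5 [0, 1, 2, 3, 4] [0, 1, 2, 3] T0.lrels T0.subs = true := by
    decide +kernel
  have c1 : checkLevel rels 5 [0, 1, 2, 3] [0, 2] T1.lrels T1.subs = true := by decide +kernel
  have c2 : checkLevel rels 5 [0, 2] [] T2.lrels T2.subs = true := by decide +kernel
  have h := level_card (cov_level hL h2 hrel 5 rfl c0 T0.hR T0.hdefs T0.hsteps T0.htable) (by decide)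
    c0 (level_card (cov_level hL h2 hrel 4 rfl c1 T1.hR T1.hdefs T1.hsteps T1.htable) (by decide)
      c1 (level_card (cov_level hL h2 hrel 2 rfl c2 T2.hR T2.hdefs T2.hsteps T2.htable) (by decide)
        c2 card_genBy_nil))
  have e : lv L [0, 1, 2, 3, 4] = L := by
    have := lv_range (L := L)
    rwa [hL] at this
  rw [genBy, e] at h
  exact h.2.trans (by norm_num)

/-- The kernel of a stem extension has order at most two. -/
theorem card_ker_le [Finite Γ] (hs : Cfsg.IsStemExtension σ) : Nat.card σ.ker ≤ 2 := by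
  obtain ⟨a, hmap, h2, hrel⟩ := exists_lifts hs
  have hla : a.length = 5 := by rw [← List.length_map (f := σ), hmap, len_Lp]
  set L : List (Γ × ℤˣ) := a.map fun g => (g, -1) with hLdef
  have hfl : ∀ l, l < 5 → fl L l = (fl a l, -1) := by
    intro l hl
    rw [fl, fl, List.getD_eq_getElem _ _ (by simp [hLdef, hla, hl]),
      List.getD_eq_getElem _ _ (by omega)]
    simp [hLdef]
  have hev : ∀ w : List Nat, (∀ l ∈ w, l < 5) → ev L w = (ev a w, (-1) ^ w.length) := by
    intro w
    induction w with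
    | nil => intro _; rfl
    | cons l w ih =>
      intro h
      rw [ev_cons, hfl l (h l (by simp)), ih fun m hm => h m (by simp [hm]), ev_cons,
        List.length_cons, pow_succ']
      rfl
  have hL2 : ∀ l, fl L l * fl L l = 1 := by
    intro l
    rcases lt_or_ge l 5 with hl | hl
    · rw [hfl l hl]; exact Prod.ext (h2 l) (by simp)
    · rw [fl_of_le _ (by simp [hLdef, hla]; omega), mul_one]
  have hlet : checkLetters 5 rels = true := by decide +kernel
  have hLrel : ∀ w ∈ rels, ev L w = 1 := by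
    intro w hw
    have he := Nat.eq_of_beq_eq_true (List.all_eq_true.mp even_check w hw)
    rw [hev w (letters_lt hlet w hw), hrel w hw]
    refine Prod.ext rfl ?_
    show (-1 : ℤˣ) ^ w.length = 1
    rw [show w.length = 2 * (w.length / 2) by omega, pow_mul]
    simp
  have hb := cov_card (L := L) (by simp [hLdef, hla]) hL2 hLrel
  set S := Subgroup.closure {y | y ∈ L}
  -- the lifts generate the cover
  have hsurj : ∀ g : Γ, ∃ e : ℤˣ, (g, e) ∈ S := by
    have h0 : S.map (MonoidHom.fst Γ ℤˣ) = ⊤ := by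
      have hp := perfect_cover hs
      have hmapS : (S.map (MonoidHom.fst Γ ℤˣ)).map σ = ⊤ := by
        rw [Subgroup.map_map, eq_top_iff, ← closure_numGens (k := 5) (rels := Perm.rels)]
        refine (Subgroup.closure_le _).mpr fun y hy => ?_
        have hy' : y ∈ a.map σ := hmap.symm ▸ hy
        obtain ⟨g, hg, rfl⟩ := List.mem_map.mp hy'
        exact ⟨(g, -1), Subgroup.subset_closure (List.mem_map.mpr ⟨g, hg, rfl⟩), rfl⟩
      set T := S.map (MonoidHom.fst Γ ℤˣ)
      have hd : ∀ g h : Γ, ⁅g, h⁆ ∈ T := by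
        intro g h
        obtain ⟨g', hg', eg⟩ := hmapS.symm ▸ Subgroup.mem_top (σ g)
        obtain ⟨h', hh', eh⟩ := hmapS.symm ▸ Subgroup.mem_top (σ h)
        have kg : g'⁻¹ * g ∈ Subgroup.center Γ := hs.2.1 (by
          rw [MonoidHom.mem_ker, map_mul, map_inv, eg, inv_mul_cancel])
        have kh : h'⁻¹ * h ∈ Subgroup.center Γ := hs.2.1 (by
          rw [MonoidHom.mem_ker, map_mul, map_inv, eh, inv_mul_cancel])
        have e : ⁅g, h⁆ = ⁅g', h'⁆ := by
          have e1 : g = g' * (g'⁻¹ * g) := by group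
          have e2 : h = h' * (h'⁻¹ * h) := by group
          rw [e1, e2]
          generalize g'⁻¹ * g = p at kg
          generalize h'⁻¹ * h = q at kh
          have hp' := Subgroup.mem_center_iff.mp kg
          have hq' := Subgroup.mem_center_iff.mp kh
          simp only [commutatorElement_def, mul_inv_rev]
          calc g' * p * (h' * q) * (p⁻¹ * g'⁻¹) * (q⁻¹ * h'⁻¹)
              = g' * (p * (h' * q)) * p⁻¹ * g'⁻¹ * (q⁻¹ * h'⁻¹) := by group
            _ = g' * h' * (q * g'⁻¹) * (q⁻¹ * h'⁻¹) := by rw [← hp']; group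
            _ = g' * h' * g'⁻¹ * h'⁻¹ := by rw [← hq']; group
        rw [e, commutatorElement_def]
        exact mul_mem (mul_mem (mul_mem hg' hh') (inv_mem hg')) (inv_mem hh')
      refine eq_top_iff.mpr ?_
      rw [← hp, commutator_def, Subgroup.commutator_le]
      exact fun g _ h _ => hd g h
    intro g
    obtain ⟨⟨g', e⟩, hg, rfl⟩ := h0.symm ▸ Subgroup.mem_top g
    exact ⟨e, hg⟩
  have hone : ∀ g : Γ, (g, (1 : ℤˣ)) ∈ S := by
    have h1 : commutator Γ ≤ S.comap (MonoidHom.inl Γ ℤˣ) := by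
      rw [commutator_def, Subgroup.commutator_le]
      intro g _ h _
      obtain ⟨e, he⟩ := hsurj g
      obtain ⟨f, hf⟩ := hsurj h
      show ((⁅g, h⁆, 1) : Γ × ℤˣ) ∈ S
      have := mul_mem (mul_mem (mul_mem he hf) (inv_mem he)) (inv_mem hf)
      convert this using 1
      refine Prod.ext rfl ?_
      show (1 : ℤˣ) = e * f * e⁻¹ * f⁻¹
      rw [mul_comm e f, mul_inv_cancel_right, mul_inv_cancel]
    intro g
    exact h1 (perfect_cover hs ▸ Subgroup.mem_top g)
  have hall : S = ⊤ := by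
    refine eq_top_iff.mpr ?_
    rintro ⟨g, e⟩ -
    have hm : fl L 0 ∈ S := Subgroup.subset_closure (by
      show fl L 0 ∈ L
      rw [fl, List.getD_eq_getElem _ _ (by simp [hLdef, hla])]
      exact List.getElem_mem _)
    rcases Int.units_eq_one_or e with rfl | rfl
    · exact hone g
    · have := mul_mem (hone (g * (fl a 0)⁻¹)) hm
      rw [hfl 0 (by norm_num), Prod.mk_mul_mk, inv_mul_cancel_right, one_mul] at this
      exact this
  rw [hall, Subgroup.card_top, Nat.card_prod,
    show Nat.card ℤˣ = 2 by rw [Nat.card_eq_fintype_card, Fintype.card_units_int]] at hb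
  have hk := Subgroup.card_eq_card_quotient_mul_card_subgroup σ.ker
  rw [Nat.card_congr (QuotientGroup.quotientKerEquivOfSurjective σ hs.1).toEquiv, card_P] at hk
  omega

end

end CfsgLib.J2.Cover
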