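import Cfsg.Agent.J2.Main
import Mathlib.GroupTheory.Abelianization.Defs

/-! `-1` lies in the derived group of the reflection group. -/

set_option autoImplicit false
set_option maxRecDepth 100000

namespace CfsgLib.J2

open Ico Quaternion Cfsg.Spor

/-- A word for `-1` using each letter an even number of times. -/
def negWord2 : List (Fin 5) := [0, 2, 1, 3, 0, 2, 4, 3, 0, 2, 1, 3, 0, 2, 4, 3, 0, 2, 1, 3, 0, 2, 4, 3,
  1, 4, 1, 4, 1, 4]

/-- the check that the word is `-1` -/
noncomputable def negChk2 (i : Nat) : Bool :=
  forceV (lineV i) fun v => wordChk negWord2 v fun r => forceV r fun r =>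
    decide (r.x = v.x.neg) && decide (r.y = v.y.neg) && decide (r.z = v.z.neg)

theorem neg2_314 : negChk2 314 = true := by decide +kernel
theorem neg2_0 : negChk2 0 = true := by decide +kernel
theorem neg2_9 : negChk2 9 = true := by decide +kernel

theorem negWord2_eq : (negWord2.map gT).prod = negOne := by
  have hv : ((negWord2.map gT).prod).1 = (negWord2.map gR).prod := by
    rw [SubmonoidClass.coe_list_prod, List.map_map]
    rfl
  obtain ⟨L, hL, -⟩ := (lin_of_mem (negWord2.map gT).prod.2).1
  have key : ∀ (i : Fin 315) (t : Fin 3), negChk2 i.val = true →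
      lineR i = (-2 : ℍ[ℝ]) • axis t → L (axis t) = (-1 : ℍ[ℝ]) • axis t := by
    intro i t h he
    rw [negChk2, forceV_eq] at h
    obtain ⟨r, hr, hw⟩ := wordChk_spec _ _ _ h (linePt i) rfl
    rw [forceV_eq] at hr
    simp only [Bool.and_eq_true, decide_eq_true_eq] at hr
    obtain ⟨⟨r1, r2⟩, r3⟩ := hr
    have e : L (lineR i) = -lineR i := by
      rw [show lineR i = (linePt i).1 from rfl, ← hL, hv, hw]
      funext s
      fin_cases s <;> simp [linePt, lineR, r1, r2, r3]
    rw [he, map_smul, ← smul_neg] at e
    rw [smul_right_injective _ neg_two_ne e, neg_one_smul]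
  refine Subtype.ext (Equiv.ext fun x => Subtype.ext ?_)
  rw [hL, negOne_apply, map_diag (a := fun _ => -1) (by
    intro t
    fin_cases t
    · exact key 314 0 neg2_314 lineR_314
    · exact key 0 1 neg2_0 lineR_0
    · exact key 9 2 neg2_9 lineR_9)]
  funext t
  simp

theorem gT_sq (l : Fin 5) : gT l * gT l = 1 := Subtype.ext (Rv_sq _)

theorem negOne_mem_commutator : negOne ∈ commutator twoJ2 := by
  rw [← Abelianization.ker_of, MonoidHom.mem_ker, ← negWord2_eq, map_list_prod, List.map_map]
  set u : List (Fin 5) := [0, 0, 0, 1, 1, 1, 2, 2, 2, 3, 3, 3, 4, 4, 4]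
  have hp : negWord2.Perm (u ++ u) := by decide
  rw [(hp.map _).prod_eq, List.map_append, List.prod_append]
  have h : ∀ v : List (Fin 5),
      (v.map (⇑(Abelianization.of (G := twoJ2)) ∘ gT)).prod *
        (v.map (⇑(Abelianization.of (G := twoJ2)) ∘ gT)).prod = 1 := by
    intro v
    induction v with
    | nil => simp
    | cons l v ih =>
      rw [List.map_cons, List.prod_cons, mul_mul_mul_comm, ih, mul_one, Function.comp_apply,
        ← map_mul, gT_sq, map_one]
  exact h u

theorem center_le_commutator : Subgroup.center twoJ2 ≤ commutator twoJ2 := by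
  rw [← ker_eq_center]
  intro g hg
  rcases mem_ker hg with rfl | rfl
  · exact one_mem _
  · exact negOne_mem_commutator

end CfsgLib.J2
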