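import Cfsg.Agent.J2.Cover.Word
import Cfsg.Agent.J2.Aut.Table
import Cfsg.Prelude.Def_KGroupFacts

/-! Canonical involutive lifts of the reflections to a stem extension. -/

set_option autoImplicit false
set_option maxRecDepth 100000

namespace CfsgLib.J2.Cover

open CfsgLib.Coset Perm
open scoped commutatorElement

theorem noncomm_gens : fl Lp 0 * fl Lp 2 ≠ fl Lp 2 * fl Lp 0 := by
  intro h
  have hc : fl Lp 2 ∈ Perm.C := by
    rw [Perm.C, Subgroup.mem_centralizer_singleton_iff]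
    exact h.symm
  rw [C_eq_genW, genW_eq_S1, S1] at hc
  have e : fl Lp 2 = ev Lp [2] := by simp
  rw [e] at hc
  have h1 := (matches_ρ.fix_iff (w := [2]) (fun l hl => by
    rw [List.mem_singleton] at hl
    rw [hl, len_Lp]; decide)).mp hc
  exact absurd h1 (by decide +kernel)

theorem perfect_P : commutator P = ⊤ := by
  rcases isSimple.eq_bot_or_eq_top_of_normal (commutator P) inferInstance with h | h
  · exfalso
    refine noncomm_gens ?_
    have hm := Subgroup.commutator_mem_commutator (H₁ := (⊤ : Subgroup P)) (H₂ := ⊤)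
      (Subgroup.mem_top (fl Lp 0)) (Subgroup.mem_top (fl Lp 2))
    rw [← commutator_def, h, Subgroup.mem_bot, commutatorElement_eq_one_iff_mul_comm] at hm
    exact hm
  · exact h

/-- The first commutator factor. -/
def q1 : List Nat := [1]
/-- The second commutator factor. -/
def q2 : List Nat := [2, 3, 0, 2, 3, 1, 2, 3, 0, 2, 3, 2, 3, 0, 2, 3]

theorem q_check : (qWords.contains q1 && qWords.contains q2 &&
    sameW (q1 ++ q1) [] && sameW (q1 ++ q2 ++ q1.reverse ++ q2.reverse) [0]) = true := by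
  decide +kernel

/-- The generators of the centraliser as commutators. -/
def perfWords : List (List Nat × List Nat) := [([1, 2, 0, 4, 2, 0, 4, 2, 3, 0, 2, 3], [2, 0, 4, 2, 0, 4, 2, 3, 0, 2, 3, 1]), ([1, 2, 0, 4, 2, 0, 4, 1, 2, 0, 4, 2, 0, 4, 1], [2, 0, 4, 2, 0, 4, 2, 0, 4, 2, 0, 4, 2, 0, 4, 2, 0, 4]), ([1, 2, 3, 0, 2, 3, 2, 3, 0, 2, 3, 2, 0, 4, 2, 0, 4, 2, 0, 4, 2, 0, 4, 2, 3, 0, 2, 3, 2, 3, 0, 2, 3, 2, 0, 4, 2, 0, 4, 2, 0, 4, 2, 0, 4], [1, 2, 3, 0, 2, 3, 1, 2, 3, 0, 2, 3, 2, 0, 4, 2, 0, 4]), ([1, 2, 3, 0, 2, 3, 1, 2, 0, 4, 2, 0, 4, 2, 0, 4, 2, 0, 4, 2, 0, 4, 2, 0, 4, 2, 3, 0, 2, 3], [1, 2, 3, 0, 2, 3, 1, 2, 0, 4, 2, 0, 4, 2, 0, 4, 2, 0, 4, 2, 3, 0, 2, 3])]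

theorem perf_check : (G1G.all fun w => perfWords.any fun t =>
    sameW (t.1 ++ [0]) (0 :: t.1) && sameW (t.2 ++ [0]) (0 :: t.2) &&
    sameW (t.1 ++ t.2 ++ t.1.reverse ++ t.2.reverse) w) = true := by decide +kernel

theorem mem_C_of_sameW {w : List Nat} (h : sameW (w ++ [0]) (0 :: w) = true) :
    ev Lp w ∈ Perm.C := by
  rw [Perm.C, Subgroup.mem_centralizer_singleton_iff]
  simpa [ev_append, Perm.z] using sameW_eq h

/-- The centraliser is perfect. -/
theorem C_le_of_comm {S : Subgroup P}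
    (h : ∀ a b, a ∈ Perm.C → b ∈ Perm.C → ⁅a, b⁆ ∈ S) : Perm.C ≤ S := by
  rw [C_eq_genW, genW]
  refine (Subgroup.closure_le S).mpr ?_
  rintro _ ⟨w, hw, rfl⟩
  obtain ⟨t, -, ht⟩ := List.any_eq_true.mp (List.all_eq_true.mp perf_check w hw)
  simp only [Bool.and_eq_true] at ht
  rw [SetLike.mem_coe, ← sameW_eq ht.2]
  have := h _ _ (mem_C_of_sameW ht.1.1) (mem_C_of_sameW ht.1.2)
  simpa [commutatorElement_def, ev_append, ev_reverse, mul_assoc] using this

variable {Γ : Type} [Group Γ] {σ : Γ →* P}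

theorem perfect_cover (hs : Cfsg.IsStemExtension σ) : commutator Γ = ⊤ := by
  refine eq_top_iff.mpr fun g _ => ?_
  have h : (commutator Γ).map σ = ⊤ := by
    rw [commutator_def, Subgroup.map_commutator, Subgroup.map_top_of_surjective σ hs.1,
      ← commutator_def, perfect_P]
  obtain ⟨d, hd, he⟩ := h.symm ▸ Subgroup.mem_top (σ g)
  have hk : d⁻¹ * g ∈ σ.ker := by
    rw [MonoidHom.mem_ker, map_mul, map_inv, he, inv_mul_cancel]
  simpa using mul_mem hd (hs.2.2 hk)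

theorem map_ev (σ' : Γ →* P) (b : List Γ) (hb : b.map σ' = Lp) (w : List Nat) :
    σ' (ev b w) = ev Lp w := by
  induction w with
  | nil => simp
  | cons l w ih =>
    have e : σ' (fl b l) = fl Lp l := by
      rw [← hb, fl, fl, ← List.getD_map (f := σ'), map_one]
    rw [ev_cons, ev_cons, map_mul, ih, e]

/-- A conjugation over a commuting pair changes a lift by a central factor. -/
theorem exists_central (hc : σ.ker ≤ Subgroup.center Γ) {x a : Γ}
    (h : σ a * σ x = σ x * σ a) : ∃ k ∈ Subgroup.center Γ, a * x * a⁻¹ = k * x :=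
  ⟨a * x * a⁻¹ * x⁻¹, hc (by
    rw [MonoidHom.mem_ker]
    simp only [map_mul, map_inv, h, mul_inv_cancel_right, mul_inv_cancel]),
    by rw [inv_mul_cancel_right]⟩

theorem commutator_fixes (hc : σ.ker ≤ Subgroup.center Γ) {x a b : Γ}
    (ha : σ a * σ x = σ x * σ a) (hb : σ b * σ x = σ x * σ b) :
    ⁅a, b⁆ * x = x * ⁅a, b⁆ := by
  obtain ⟨j, hj, ea⟩ := exists_central hc ha
  obtain ⟨k, hk, eb⟩ := exists_central hc hb
  have hj' : ∀ y, y * j = j * y := fun y => (Subgroup.mem_center_iff.mp hj y)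
  have hk' : ∀ y, y * k = k * y := fun y => (Subgroup.mem_center_iff.mp hk y)
  have conj_mul : ∀ (g c y : Γ), (∀ z, z * c = c * z) → g * (c * y) * g⁻¹ = c * (g * y * g⁻¹) := by
    intro g c y hcc
    rw [← mul_assoc g c y, hcc g]; group
  have ea' : a⁻¹ * x * a = j⁻¹ * x := by
    have e : x = j * (a⁻¹ * x * a) := by
      have this : a⁻¹ * (a * x * a⁻¹) * a = a⁻¹ * (j * x) * a := by rw [ea]
      rw [show a⁻¹ * (j * x) * a = (a⁻¹ * j) * (x * a) by group, hj' a⁻¹] at this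
      calc x = a⁻¹ * (a * x * a⁻¹) * a := by group
        _ = j * (a⁻¹ * x * a) := by rw [this]; group
    calc a⁻¹ * x * a = j⁻¹ * (j * (a⁻¹ * x * a)) := by group
      _ = j⁻¹ * x := by rw [← e]
  have eb' : b⁻¹ * x * b = k⁻¹ * x := by
    have e : x = k * (b⁻¹ * x * b) := by
      have this : b⁻¹ * (b * x * b⁻¹) * b = b⁻¹ * (k * x) * b := by rw [eb]
      rw [show b⁻¹ * (k * x) * b = (b⁻¹ * k) * (x * b) by group, hk' b⁻¹] at this
      calc x = b⁻¹ * (b * x * b⁻¹) * b := by group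
        _ = k * (b⁻¹ * x * b) := by rw [this]; group
    calc b⁻¹ * x * b = k⁻¹ * (k * (b⁻¹ * x * b)) := by group
      _ = k⁻¹ * x := by rw [← e]
  have hji : ∀ y, y * j⁻¹ = j⁻¹ * y := fun y =>
    Subgroup.mem_center_iff.mp (inv_mem hj) y
  have hki : ∀ y, y * k⁻¹ = k⁻¹ * y := fun y =>
    Subgroup.mem_center_iff.mp (inv_mem hk) y
  rw [← mul_inv_eq_iff_eq_mul, commutatorElement_def]
  calc a * b * a⁻¹ * b⁻¹ * x * (a * b * a⁻¹ * b⁻¹)⁻¹
      = a * (b * (a⁻¹ * (b⁻¹ * x * b) * a) * b⁻¹) * a⁻¹ := by group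
    _ = a * (b * (k⁻¹ * (j⁻¹ * x)) * b⁻¹) * a⁻¹ := by
        rw [eb', show a⁻¹ * (k⁻¹ * x) * a = a⁻¹ * (k⁻¹ * x) * (a⁻¹)⁻¹ by group,
          conj_mul a⁻¹ k⁻¹ x hki, inv_inv, ea']
    _ = k⁻¹ * (j⁻¹ * (k * (j * x))) := by
        rw [conj_mul b k⁻¹ _ hki, conj_mul b j⁻¹ _ hji, eb, conj_mul a k⁻¹ _ hki,
          conj_mul a j⁻¹ _ hji, conj_mul a k _ hk', ea]
    _ = x := by rw [← mul_assoc j⁻¹ k, hk' j⁻¹]; group

end CfsgLib.J2.Cover
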