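import Cfsg.Agent.Coset.Prim

/-! Relators holding for involutive lifts of the five reflections in a stem extension. -/

set_option autoImplicit false
set_option maxRecDepth 100000

namespace CfsgLib.J2.Cover

/-- The conjugations `(u, m, v, m')`: both `u` applied to `m` and `v` applied to `m'` give the same line. -/
def covData : List (List Nat × Nat × List Nat × Nat) := [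
  ([0], 1, [], 1),
  ([0], 2, [2], 0),
  ([0], 3, [3], 0),
  ([0], 4, [4], 0),
  ([1], 2, [2], 1),
  ([1], 3, [3], 1),
  ([1], 4, [4], 1),
  ([2], 3, [3], 2),
  ([2], 4, [4], 2),
  ([3], 4, [4], 3),
  ([0, 1, 2], 0, [2], 1),
  ([0, 1, 3], 0, [3], 1),
  ([0, 1, 4], 0, [4], 1),
  ([0, 2, 3], 0, [3, 2], 0),
  ([0, 2, 4], 1, [3, 4], 1),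
  ([2, 0, 3], 2, [3, 2], 0),
  ([0, 1, 0, 3], 2, [1, 3], 2),
  ([2, 0, 2, 4], 0, [0, 4], 2),
  ([2, 1, 2, 3], 1, [1, 3], 2),
  ([2, 1, 2, 4], 1, [1, 4], 2),
  ([3, 0, 3, 4], 0, [0, 4], 3),
  ([3, 1, 3, 2], 1, [1, 3], 2),
  ([3, 1, 3, 4], 1, [1, 4], 3),
  ([3, 2, 3], 1, [2, 3, 2], 1),
  ([4, 0, 3], 2, [2, 3, 2], 1),
  ([0, 1, 2, 3], 0, [1, 3, 2], 0),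
  ([0, 1, 2, 4], 1, [1, 3, 4], 1),
  ([0, 2, 1, 4], 0, [2, 3, 4], 1),
  ([0, 3, 1, 4], 0, [3, 2, 4], 1),
  ([0, 4, 1, 3], 2, [4, 1, 3], 2),
  ([1, 2, 3, 2], 1, [2, 3, 2], 1),
  ([2, 0, 3, 4], 2, [1, 3, 4], 2),
  ([2, 1, 3, 2], 1, [1, 3, 2], 1),
  ([2, 1, 4, 3], 1, [1, 4, 3], 1),
  ([2, 4, 3, 2], 0, [4, 3, 2], 1),
  ([3, 0, 2, 4], 3, [1, 2, 4], 3),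
  ([3, 1, 2, 3], 1, [1, 2, 3], 1),
  ([3, 2, 1, 4], 0, [2, 1, 4], 0),
  ([3, 4, 2, 3], 0, [4, 2, 3], 1),
  ([4, 1, 0, 3], 2, [1, 0, 3], 2),
  ([4, 3, 1, 4], 2, [3, 1, 4], 2),
  ([0, 1, 0, 2, 3], 1, [1, 2, 3], 1),
  ([0, 1, 0, 3, 2], 1, [1, 3, 2], 1),
  ([0, 1, 2, 4], 3, [4, 1, 0, 4], 3),
  ([0, 1, 3, 4], 2, [4, 1, 0, 4], 2),
  ([0, 1, 4, 1, 2], 0, [3, 4, 3], 2),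
  ([0, 2, 0, 4], 3, [3, 4, 3, 2], 0),
  ([0, 2, 4, 2, 3], 0, [3, 0, 4], 2),
  ([1, 2, 0, 4, 2], 0, [4, 3, 2], 1),
  ([1, 2, 1, 4], 3, [3, 4, 3, 2], 1),
  ([1, 2, 3, 2, 4], 1, [4, 1, 3], 2),
  ([1, 2, 4, 2, 3], 1, [3, 1, 4], 2),
  ([2, 0, 2, 1, 3], 0, [0, 2, 3], 1),
  ([2, 1, 2, 1, 3], 0, [1, 2, 3], 0),
  ([2, 1, 3, 1, 4], 0, [3, 4, 2], 1),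
  ([2, 1, 4, 1, 2], 0, [4, 1, 3], 2),
  ([2, 3, 1, 2, 4], 0, [3, 4, 3], 1),
  ([3, 0, 3, 1, 2], 0, [0, 3, 2], 1),
  ([3, 1, 3, 1, 2], 0, [1, 3, 2], 0),
  ([3, 1, 4, 1, 3], 0, [4, 1, 3], 2),
  ([4, 0, 4, 1, 2], 0, [0, 4, 2], 1),
  ([4, 1, 2, 3], 1, [2, 1, 4, 2], 0),
  ([4, 1, 4, 1, 2], 0, [1, 4, 2], 0),
  ([0, 1, 3, 4, 3], 0, [2, 1, 4, 2], 0),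
  ([1, 2, 0, 3, 2], 1, [3, 0, 2, 3], 1),
  ([1, 2, 1, 0, 3], 2, [2, 1, 3, 2], 0),
  ([1, 2, 3, 1, 2], 0, [4, 2, 3, 4], 0),
  ([1, 3, 1, 0, 3], 2, [3, 1, 2, 3], 0),
  ([1, 3, 2, 1, 3], 0, [4, 3, 2, 4], 0),
  ([2, 0, 2, 4, 2], 1, [3, 0, 4, 3], 0),
  ([2, 3, 2, 1, 3], 0, [3, 2, 1, 3], 0),
  ([3, 1, 0, 3, 4], 0, [2, 1, 4, 3], 0),
  ([4, 0, 2, 1, 3], 0, [2, 1, 3, 4], 0),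
  ([4, 1, 2, 0, 4], 3, [1, 2, 1, 3], 0),
  ([4, 1, 3, 0, 4], 2, [1, 3, 1, 2], 0),
  ([0, 1, 2, 3, 1, 2], 0, [3, 2, 1, 3], 0),
  ([0, 2, 1, 0, 3], 2, [3, 2, 1, 3, 2], 0),
  ([0, 2, 3, 1, 2, 3], 0, [3, 1, 0, 3], 2),
  ([1, 0, 2, 3, 1, 2], 0, [3, 2, 1, 3], 0),
  ([2, 0, 2, 0, 4, 3], 1, [0, 2, 4, 3], 1),
  ([2, 1, 0, 2, 3], 1, [3, 2, 1, 3, 2], 0),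
  ([2, 1, 0, 3, 2], 1, [3, 1, 2, 1, 3], 0),
  ([3, 1, 0, 2, 3], 1, [2, 1, 3, 1, 2], 0),
  ([3, 1, 0, 3, 2], 1, [2, 3, 1, 2, 3], 0),
  ([4, 1, 0, 3, 1, 2], 0, [2, 1, 0, 3], 2),
  ([4, 2, 1, 0, 4], 2, [3, 2, 1, 0, 3], 2),
  ([4, 2, 3, 1, 0, 3], 2, [3, 1, 0, 4], 3),
  ([0, 1, 4, 0, 3, 2], 1, [4, 1, 0, 2, 4], 0),
  ([0, 2, 0, 3, 1, 2], 0, [3, 0, 2, 1, 3], 0),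
  ([0, 2, 1, 3, 1, 2], 0, [2, 1, 3, 1, 2], 0),
  ([0, 3, 1, 2, 1, 3], 0, [3, 1, 2, 1, 3], 0),
  ([1, 0, 2, 1, 3, 2], 0, [3, 2, 1, 3, 2], 0),
  ([1, 2, 0, 3, 1, 2], 0, [2, 0, 3, 1, 2], 0),
  ([1, 2, 1, 3, 1, 2], 0, [3, 2, 0, 3, 2], 1),
  ([1, 2, 3, 0, 2, 3], 1, [3, 1, 2, 1, 3], 0),
  ([2, 0, 2, 1, 3, 2], 0, [1, 0, 2, 1, 3], 0),
  ([2, 0, 2, 3, 1, 2], 0, [3, 0, 2, 1, 3], 0),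
  ([2, 0, 3, 0, 4, 2], 1, [0, 4, 0, 3, 2], 1),
  ([2, 1, 0, 3, 1, 2], 0, [1, 0, 3, 1, 2], 0),
  ([3, 0, 2, 0, 3, 2], 1, [0, 2, 0, 3, 2], 1),
  ([1, 2, 0, 3, 1, 2, 3], 0, [2, 3, 1, 0, 3], 2),
  ([1, 3, 0, 2, 1, 3, 2], 0, [3, 2, 1, 0, 3], 2),
  ([3, 2, 3, 1, 0, 3], 2, [2, 3, 2, 1, 0, 3], 2)]

/-- The relators. -/
def rels : List (List Nat) := [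
  [0, 0],
  [1, 1],
  [2, 2],
  [3, 3],
  [4, 4],
  [0, 1, 0, 1],
  [0, 2, 0, 2, 0, 2],
  [0, 3, 0, 3, 0, 3],
  [0, 4, 0, 4, 0, 4],
  [1, 2, 1, 2, 1, 2],
  [1, 3, 1, 3, 1, 3],
  [1, 4, 1, 4, 1, 4],
  [2, 3, 2, 3, 2, 3],
  [2, 4, 2, 4, 2, 4],
  [3, 4, 3, 4, 3, 4],
  [0, 1, 2, 0, 2, 1, 0, 2, 1, 2],
  [0, 1, 3, 0, 3, 1, 0, 3, 1, 3],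
  [0, 1, 4, 0, 4, 1, 0, 4, 1, 4],
  [0, 2, 3, 0, 3, 2, 0, 3, 2, 0, 2, 3],
  [0, 2, 4, 1, 4, 2, 0, 3, 4, 1, 4, 3],
  [2, 0, 3, 2, 3, 0, 2, 3, 2, 0, 2, 3],
  [0, 1, 0, 3, 2, 3, 0, 1, 0, 1, 3, 2, 3, 1],
  [2, 0, 2, 4, 0, 4, 2, 0, 2, 0, 4, 2, 4, 0],
  [2, 1, 2, 3, 1, 3, 2, 1, 2, 1, 3, 2, 3, 1],
  [2, 1, 2, 4, 1, 4, 2, 1, 2, 1, 4, 2, 4, 1],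
  [3, 0, 3, 4, 0, 4, 3, 0, 3, 0, 4, 3, 4, 0],
  [3, 1, 3, 2, 1, 2, 3, 1, 3, 1, 3, 2, 3, 1],
  [3, 1, 3, 4, 1, 4, 3, 1, 3, 1, 4, 3, 4, 1],
  [3, 2, 3, 1, 3, 2, 3, 2, 3, 2, 1, 2, 3, 2],
  [4, 0, 3, 2, 3, 0, 4, 2, 3, 2, 1, 2, 3, 2],
  [0, 1, 2, 3, 0, 3, 2, 1, 0, 1, 3, 2, 0, 2, 3, 1],
  [0, 1, 2, 4, 1, 4, 2, 1, 0, 1, 3, 4, 1, 4, 3, 1],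
  [0, 2, 1, 4, 0, 4, 1, 2, 0, 2, 3, 4, 1, 4, 3, 2],
  [0, 3, 1, 4, 0, 4, 1, 3, 0, 3, 2, 4, 1, 4, 2, 3],
  [0, 4, 1, 3, 2, 3, 1, 4, 0, 4, 1, 3, 2, 3, 1, 4],
  [1, 2, 3, 2, 1, 2, 3, 2, 1, 2, 3, 2, 1, 2, 3, 2],
  [2, 0, 3, 4, 2, 4, 3, 0, 2, 1, 3, 4, 2, 4, 3, 1],
  [2, 1, 3, 2, 1, 2, 3, 1, 2, 1, 3, 2, 1, 2, 3, 1],
  [2, 1, 4, 3, 1, 3, 4, 1, 2, 1, 4, 3, 1, 3, 4, 1],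
  [2, 4, 3, 2, 0, 2, 3, 4, 2, 4, 3, 2, 1, 2, 3, 4],
  [3, 0, 2, 4, 3, 4, 2, 0, 3, 1, 2, 4, 3, 4, 2, 1],
  [3, 1, 2, 3, 1, 3, 2, 1, 3, 1, 2, 3, 1, 3, 2, 1],
  [3, 2, 1, 4, 0, 4, 1, 2, 3, 2, 1, 4, 0, 4, 1, 2],
  [3, 4, 2, 3, 0, 3, 2, 4, 3, 4, 2, 3, 1, 3, 2, 4],
  [4, 1, 0, 3, 2, 3, 0, 1, 4, 1, 0, 3, 2, 3, 0, 1],
  [4, 3, 1, 4, 2, 4, 1, 3, 4, 3, 1, 4, 2, 4, 1, 3],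
  [0, 1, 0, 2, 3, 1, 3, 2, 0, 1, 0, 1, 2, 3, 1, 3, 2, 1],
  [0, 1, 0, 3, 2, 1, 2, 3, 0, 1, 0, 1, 3, 2, 1, 2, 3, 1],
  [0, 1, 2, 4, 3, 4, 2, 1, 0, 4, 1, 0, 4, 3, 4, 0, 1, 4],
  [0, 1, 3, 4, 2, 4, 3, 1, 0, 4, 1, 0, 4, 2, 4, 0, 1, 4],
  [0, 1, 4, 1, 2, 0, 2, 1, 4, 1, 0, 3, 4, 3, 2, 3, 4, 3],
  [0, 2, 0, 4, 3, 4, 0, 2, 0, 3, 4, 3, 2, 0, 2, 3, 4, 3],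
  [0, 2, 4, 2, 3, 0, 3, 2, 4, 2, 0, 3, 0, 4, 2, 4, 0, 3],
  [1, 2, 0, 4, 2, 0, 2, 4, 0, 2, 1, 4, 3, 2, 1, 2, 3, 4],
  [1, 2, 1, 4, 3, 4, 1, 2, 1, 3, 4, 3, 2, 1, 2, 3, 4, 3],
  [1, 2, 3, 2, 4, 1, 4, 2, 3, 2, 1, 4, 1, 3, 2, 3, 1, 4],
  [1, 2, 4, 2, 3, 1, 3, 2, 4, 2, 1, 3, 1, 4, 2, 4, 1, 3],
  [2, 0, 2, 1, 3, 0, 3, 1, 2, 0, 2, 0, 2, 3, 1, 3, 2, 0],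
  [2, 1, 2, 1, 3, 0, 3, 1, 2, 1, 2, 1, 2, 3, 0, 3, 2, 1],
  [2, 1, 3, 1, 4, 0, 4, 1, 3, 1, 2, 3, 4, 2, 1, 2, 4, 3],
  [2, 1, 4, 1, 2, 0, 2, 1, 4, 1, 2, 4, 1, 3, 2, 3, 1, 4],
  [2, 3, 1, 2, 4, 0, 4, 2, 1, 3, 2, 3, 4, 3, 1, 3, 4, 3],
  [3, 0, 3, 1, 2, 0, 2, 1, 3, 0, 3, 0, 3, 2, 1, 2, 3, 0],
  [3, 1, 3, 1, 2, 0, 2, 1, 3, 1, 3, 1, 3, 2, 0, 2, 3, 1],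
  [3, 1, 4, 1, 3, 0, 3, 1, 4, 1, 3, 4, 1, 3, 2, 3, 1, 4],
  [4, 0, 4, 1, 2, 0, 2, 1, 4, 0, 4, 0, 4, 2, 1, 2, 4, 0],
  [4, 1, 2, 3, 1, 3, 2, 1, 4, 2, 1, 4, 2, 0, 2, 4, 1, 2],
  [4, 1, 4, 1, 2, 0, 2, 1, 4, 1, 4, 1, 4, 2, 0, 2, 4, 1],
  [0, 1, 3, 4, 3, 0, 3, 4, 3, 1, 0, 2, 1, 4, 2, 0, 2, 4, 1, 2],
  [1, 2, 0, 3, 2, 1, 2, 3, 0, 2, 1, 3, 0, 2, 3, 1, 3, 2, 0, 3],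
  [1, 2, 1, 0, 3, 2, 3, 0, 1, 2, 1, 2, 1, 3, 2, 0, 2, 3, 1, 2],
  [1, 2, 3, 1, 2, 0, 2, 1, 3, 2, 1, 4, 2, 3, 4, 0, 4, 3, 2, 4],
  [1, 3, 1, 0, 3, 2, 3, 0, 1, 3, 1, 3, 1, 2, 3, 0, 3, 2, 1, 3],
  [1, 3, 2, 1, 3, 0, 3, 1, 2, 3, 1, 4, 3, 2, 4, 0, 4, 2, 3, 4],
  [2, 0, 2, 4, 2, 1, 2, 4, 2, 0, 2, 3, 0, 4, 3, 0, 3, 4, 0, 3],
  [2, 3, 2, 1, 3, 0, 3, 1, 2, 3, 2, 3, 2, 1, 3, 0, 3, 1, 2, 3],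
  [3, 1, 0, 3, 4, 0, 4, 3, 0, 1, 3, 2, 1, 4, 3, 0, 3, 4, 1, 2],
  [4, 0, 2, 1, 3, 0, 3, 1, 2, 0, 4, 2, 1, 3, 4, 0, 4, 3, 1, 2],
  [4, 1, 2, 0, 4, 3, 4, 0, 2, 1, 4, 1, 2, 1, 3, 0, 3, 1, 2, 1],
  [4, 1, 3, 0, 4, 2, 4, 0, 3, 1, 4, 1, 3, 1, 2, 0, 2, 1, 3, 1],
  [0, 1, 2, 3, 1, 2, 0, 2, 1, 3, 2, 1, 0, 3, 2, 1, 3, 0, 3, 1, 2, 3],
  [0, 2, 1, 0, 3, 2, 3, 0, 1, 2, 0, 3, 2, 1, 3, 2, 0, 2, 3, 1, 2, 3],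
  [0, 2, 3, 1, 2, 3, 0, 3, 2, 1, 3, 2, 0, 3, 1, 0, 3, 2, 3, 0, 1, 3],
  [1, 0, 2, 3, 1, 2, 0, 2, 1, 3, 2, 0, 1, 3, 2, 1, 3, 0, 3, 1, 2, 3],
  [2, 0, 2, 0, 4, 3, 1, 3, 4, 0, 2, 0, 2, 0, 2, 4, 3, 1, 3, 4, 2, 0],
  [2, 1, 0, 2, 3, 1, 3, 2, 0, 1, 2, 3, 2, 1, 3, 2, 0, 2, 3, 1, 2, 3],
  [2, 1, 0, 3, 2, 1, 2, 3, 0, 1, 2, 3, 1, 2, 1, 3, 0, 3, 1, 2, 1, 3],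
  [3, 1, 0, 2, 3, 1, 3, 2, 0, 1, 3, 2, 1, 3, 1, 2, 0, 2, 1, 3, 1, 2],
  [3, 1, 0, 3, 2, 1, 2, 3, 0, 1, 3, 2, 3, 1, 2, 3, 0, 3, 2, 1, 3, 2],
  [4, 1, 0, 3, 1, 2, 0, 2, 1, 3, 0, 1, 4, 2, 1, 0, 3, 2, 3, 0, 1, 2],
  [4, 2, 1, 0, 4, 2, 4, 0, 1, 2, 4, 3, 2, 1, 0, 3, 2, 3, 0, 1, 2, 3],
  [4, 2, 3, 1, 0, 3, 2, 3, 0, 1, 3, 2, 4, 3, 1, 0, 4, 3, 4, 0, 1, 3],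
  [0, 1, 4, 0, 3, 2, 1, 2, 3, 0, 4, 1, 0, 4, 1, 0, 2, 4, 0, 4, 2, 0, 1, 4],
  [0, 2, 0, 3, 1, 2, 0, 2, 1, 3, 0, 2, 0, 3, 0, 2, 1, 3, 0, 3, 1, 2, 0, 3],
  [0, 2, 1, 3, 1, 2, 0, 2, 1, 3, 1, 2, 0, 2, 1, 3, 1, 2, 0, 2, 1, 3, 1, 2],
  [0, 3, 1, 2, 1, 3, 0, 3, 1, 2, 1, 3, 0, 3, 1, 2, 1, 3, 0, 3, 1, 2, 1, 3],
  [1, 0, 2, 1, 3, 2, 0, 2, 3, 1, 2, 0, 1, 3, 2, 1, 3, 2, 0, 2, 3, 1, 2, 3],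
  [1, 2, 0, 3, 1, 2, 0, 2, 1, 3, 0, 2, 1, 2, 0, 3, 1, 2, 0, 2, 1, 3, 0, 2],
  [1, 2, 1, 3, 1, 2, 0, 2, 1, 3, 1, 2, 1, 3, 2, 0, 3, 2, 1, 2, 3, 0, 2, 3],
  [1, 2, 3, 0, 2, 3, 1, 3, 2, 0, 3, 2, 1, 3, 1, 2, 1, 3, 0, 3, 1, 2, 1, 3],
  [2, 0, 2, 1, 3, 2, 0, 2, 3, 1, 2, 0, 2, 1, 0, 2, 1, 3, 0, 3, 1, 2, 0, 1],
  [2, 0, 2, 3, 1, 2, 0, 2, 1, 3, 2, 0, 2, 3, 0, 2, 1, 3, 0, 3, 1, 2, 0, 3],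
  [2, 0, 3, 0, 4, 2, 1, 2, 4, 0, 3, 0, 2, 0, 4, 0, 3, 2, 1, 2, 3, 0, 4, 0],
  [2, 1, 0, 3, 1, 2, 0, 2, 1, 3, 0, 1, 2, 1, 0, 3, 1, 2, 0, 2, 1, 3, 0, 1],
  [3, 0, 2, 0, 3, 2, 1, 2, 3, 0, 2, 0, 3, 0, 2, 0, 3, 2, 1, 2, 3, 0, 2, 0],
  [1, 2, 0, 3, 1, 2, 3, 0, 3, 2, 1, 3, 0, 2, 1, 2, 3, 1, 0, 3, 2, 3, 0, 1, 3, 2],
  [1, 3, 0, 2, 1, 3, 2, 0, 2, 3, 1, 2, 0, 3, 1, 3, 2, 1, 0, 3, 2, 3, 0, 1, 2, 3],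
  [3, 2, 3, 1, 0, 3, 2, 3, 0, 1, 3, 2, 3, 2, 3, 2, 1, 0, 3, 2, 3, 0, 1, 2, 3, 2]]

end CfsgLib.J2.Cover
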